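import Cfsg.Prelude.Def_SporCoxeter

set_option autoImplicit false

/-!
# Presentations used for the Schur multiplier of `Sz(8)` (S2112)

`PE`: a presentation of the full covering group `2².Sz(8)` on generators `h` (order 7), `x` (order 5), `u` (order 4,
in the Borel subgroup) and central generators `a, b, c, d`; `PB`: the covering group `2².(2^(3+3):7)` of the Borel subgroup;
`PC`: the cyclic group of order 7.  All relators hold in every stem extension of `Sz(8)` for suitable lifts.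
-/

namespace Cfsg.Agent.Helper96.Sz8

namespace PE

/-- the generators -/
inductive Gen
  | h
  | x
  | u
  | a
  | b
  | c
  | d
  deriving DecidableEq

/-- the generator h as a word -/ abbrev h : FreeGroup Gen := FreeGroup.of Gen.h
/-- the generator x as a word -/ abbrev x : FreeGroup Gen := FreeGroup.of Gen.x
/-- the generator u as a word -/ abbrev u : FreeGroup Gen := FreeGroup.of Gen.u
/-- the generator a as a word -/ abbrev a : FreeGroup Gen := FreeGroup.of Gen.a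
/-- the generator b as a word -/ abbrev b : FreeGroup Gen := FreeGroup.of Gen.b
/-- the generator c as a word -/ abbrev c : FreeGroup Gen := FreeGroup.of Gen.c
/-- the generator d as a word -/ abbrev d : FreeGroup Gen := FreeGroup.of Gen.d

/-- no Coxeter graph -/
def edges : List (Gen × ℕ × Gen) := []

/-- the relators: exact relators, then `r = z` and centrality for four relators `r` of `Sz(8)` -/
def extra : List (FreeGroup Gen) := [
  h * h * h * h * h * h * h,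
  x * x * x * x * x,
  h * x * u⁻¹ * h * x⁻¹,
  h⁻¹ * x * x * h * x⁻¹ * u⁻¹ * x * u * x * h⁻¹ * x⁻¹ * x⁻¹ * h * x⁻¹ * x⁻¹,
  h * x⁻¹ * u * h * x⁻¹ * u⁻¹ * x * u * x * h⁻¹ * u⁻¹ * x * h⁻¹ * x⁻¹ * x⁻¹,
  u⁻¹ * h * h * h * u⁻¹ * h⁻¹ * u * h⁻¹ * u⁻¹ * h * u * h⁻¹ * h⁻¹,
  h * h * h * u * h⁻¹ * h⁻¹ * u⁻¹ * h⁻¹ * u⁻¹ * a⁻¹,
  a * h * a⁻¹ * h⁻¹,
  a * x * a⁻¹ * x⁻¹,
  a * u * a⁻¹ * u⁻¹,
  h * u * h⁻¹ * u * u * h * u⁻¹ * h⁻¹ * u⁻¹ * u⁻¹ * b⁻¹,
  b * h * b⁻¹ * h⁻¹,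
  b * x * b⁻¹ * x⁻¹,
  b * u * b⁻¹ * u⁻¹,
  h * u * u * h⁻¹ * u * h * u⁻¹ * u⁻¹ * h⁻¹ * u⁻¹ * c⁻¹,
  c * h * c⁻¹ * h⁻¹,
  c * x * c⁻¹ * x⁻¹,
  c * u * c⁻¹ * u⁻¹,
  h * h * x⁻¹ * u * h * u * x * h * x * x * d⁻¹,
  d * h * d⁻¹ * h⁻¹,
  d * x * d⁻¹ * x⁻¹,
  d * u * d⁻¹ * u⁻¹,
  a * b * a⁻¹ * b⁻¹,
  a * c * a⁻¹ * c⁻¹,
  a * d * a⁻¹ * d⁻¹,
  b * c * b⁻¹ * c⁻¹,
  b * d * b⁻¹ * d⁻¹,
  c * d * c⁻¹ * d⁻¹ ]

end PE

namespace PB

/-- the generators -/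
inductive Gen
  | h
  | u
  | a
  | b
  | c
  deriving DecidableEq

/-- the generator h as a word -/ abbrev h : FreeGroup Gen := FreeGroup.of Gen.h
/-- the generator u as a word -/ abbrev u : FreeGroup Gen := FreeGroup.of Gen.u
/-- the generator a as a word -/ abbrev a : FreeGroup Gen := FreeGroup.of Gen.a
/-- the generator b as a word -/ abbrev b : FreeGroup Gen := FreeGroup.of Gen.b
/-- the generator c as a word -/ abbrev c : FreeGroup Gen := FreeGroup.of Gen.c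

/-- no Coxeter graph -/
def edges : List (Gen × ℕ × Gen) := []

/-- the relators: the relators of `PE` that only involve `h, u, a, b, c` -/
def extra : List (FreeGroup Gen) := [
  h * h * h * h * h * h * h,
  u⁻¹ * h * h * h * u⁻¹ * h⁻¹ * u * h⁻¹ * u⁻¹ * h * u * h⁻¹ * h⁻¹,
  h * h * h * u * h⁻¹ * h⁻¹ * u⁻¹ * h⁻¹ * u⁻¹ * a⁻¹,
  a * h * a⁻¹ * h⁻¹,
  a * u * a⁻¹ * u⁻¹,
  h * u * h⁻¹ * u * u * h * u⁻¹ * h⁻¹ * u⁻¹ * u⁻¹ * b⁻¹,
  b * h * b⁻¹ * h⁻¹,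
  b * u * b⁻¹ * u⁻¹,
  h * u * u * h⁻¹ * u * h * u⁻¹ * u⁻¹ * h⁻¹ * u⁻¹ * c⁻¹,
  c * h * c⁻¹ * h⁻¹,
  c * u * c⁻¹ * u⁻¹,
  a * b * a⁻¹ * b⁻¹,
  a * c * a⁻¹ * c⁻¹,
  b * c * b⁻¹ * c⁻¹ ]

end PB

namespace PC

/-- the generators -/
inductive Gen
  | h
  deriving DecidableEq

/-- the generator h as a word -/ abbrev h : FreeGroup Gen := FreeGroup.of Gen.h

/-- no Coxeter graph -/
def edges : List (Gen × ℕ × Gen) := []

/-- the relators: `h ^ 7` -/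
def extra : List (FreeGroup Gen) := [
  h * h * h * h * h * h * h ]

end PC

end Cfsg.Agent.Helper96.Sz8
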