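import Cfsg.Agent.Helper96.Sz8.Order
import Cfsg.Agent.Helper96.Sz8.Perm.Main
import Cfsg.Prelude.Def_KGroupFacts

set_option autoImplicit false
set_option maxRecDepth 1000000

/-!
# Structure of the presented covering group `E = 2².Sz(8)`: centre, perfectness, kernel of a map onto `Sz(8)`
-/

namespace Cfsg.Agent.Helper96.Sz8

open Cfsg.Agent.Helper28 Cfsg.Spor

/-- the generators of `E` -/
def eg (g : PE.Gen) : E := PresentedGroup.of g

theorem mk_of (g : PE.Gen) : (PresentedGroup.mk RE (FreeGroup.of g) : E) = eg g := rfl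

theorem rel_eq_one (r : FreeGroup PE.Gen) (hr : r ∈ PE.extra) : (PresentedGroup.mk RE r : E) = 1 :=
  (PresentedGroup.mk_eq_one_iff).mpr (Subgroup.subset_normalClosure (Or.inr hr))

theorem closure_eg : Subgroup.closure (Set.range eg) = ⊤ := PresentedGroup.closure_range_of RE

/-! ### commutation -/

theorem comm_of_rel (z g : PE.Gen)
    (h : FreeGroup.of z * FreeGroup.of g * (FreeGroup.of z)⁻¹ * (FreeGroup.of g)⁻¹ ∈ PE.extra) :
    eg z * eg g = eg g * eg z := by
  have := rel_eq_one _ h
  simp only [map_mul, map_inv, mk_of] at this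
  have h2 : eg z * eg g = (eg z * eg g * (eg z)⁻¹ * (eg g)⁻¹) * (eg g * eg z) := by group
  rw [h2, this, one_mul]

theorem mem_center_of_comm (z : E) (h : ∀ g : PE.Gen, z * eg g = eg g * z) : z ∈ Subgroup.center E := by
  rw [Subgroup.mem_center_iff]
  intro y
  have hy : y ∈ Subgroup.closure (Set.range eg) := by rw [closure_eg]; trivial
  induction hy using Subgroup.closure_induction with
  | mem s hs => obtain ⟨g, rfl⟩ := hs; exact (h g).symm
  | one => simp
  | mul a b _ _ ha hb => rw [mul_assoc, hb, ← mul_assoc, ha, mul_assoc]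
  | inv a _ ha =>
    have : a⁻¹ * z = a⁻¹ * (z * a) * a⁻¹ := by group
    rw [this, ← ha]; group

theorem ea_center : eg .a ∈ Subgroup.center E := by
  apply mem_center_of_comm
  intro g
  cases g
  · exact comm_of_rel .a .h (by decide +kernel)
  · exact comm_of_rel .a .x (by decide +kernel)
  · exact comm_of_rel .a .u (by decide +kernel)
  · rfl
  · exact comm_of_rel .a .b (by decide +kernel)
  · exact comm_of_rel .a .c (by decide +kernel)
  · exact comm_of_rel .a .d (by decide +kernel)

theorem eb_center : eg .b ∈ Subgroup.center E := by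
  apply mem_center_of_comm
  intro g
  cases g
  · exact comm_of_rel .b .h (by decide +kernel)
  · exact comm_of_rel .b .x (by decide +kernel)
  · exact comm_of_rel .b .u (by decide +kernel)
  · exact (comm_of_rel .a .b (by decide +kernel)).symm
  · rfl
  · exact comm_of_rel .b .c (by decide +kernel)
  · exact comm_of_rel .b .d (by decide +kernel)

/-! ### the permutation representation -/

/-- the representation on 2080 points -/
noncomputable def rho : E →* Equiv.Perm (Fin Perm.ptabs.n) := Perm.rho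

theorem rho_mk_ev_inv (w : List Nat) (hw : ∀ l ∈ w, l < Perm.ptabs.L) (i : Fin Perm.ptabs.n) :
    (((rho (PresentedGroup.mk RE (ev Perm.gen 7 w)))⁻¹) i).val = trace Perm.ptabs.perm w i.val :=
  rhoF_ev_inv Perm.gen Perm.idx 7 Perm.ptabs Perm.inv_ok Perm.layout.hL Perm.layout.hig w hw i

theorem rho_ne_one_of_trace (w : List Nat) (hw : ∀ l ∈ w, l < Perm.ptabs.L)
    (h : trace Perm.ptabs.perm w 0 ≠ 0) : rho (PresentedGroup.mk RE (ev Perm.gen 7 w)) ≠ 1 := by
  intro h1
  have := rho_mk_ev_inv w hw ⟨0, Perm.hn⟩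
  rw [h1] at this
  simp at this
  exact h this.symm

theorem rho_eq_one_of_relOk (w : List Nat) (hw : ∀ l ∈ w, l < Perm.ptabs.L)
    (h : relOk Perm.ptabs w 0 Perm.ptabs.n = true) : rho (PresentedGroup.mk RE (ev Perm.gen 7 w)) = 1 :=
  rhoF_ev_eq_one Perm.gen Perm.idx 7 Perm.ptabs Perm.inv_ok Perm.layout.hL Perm.layout.hig w hw h

theorem ev_a : ev Perm.gen 7 [6] = FreeGroup.of PE.Gen.a := by decide +kernel
theorem ev_b : ev Perm.gen 7 [8] = FreeGroup.of PE.Gen.b := by decide +kernel
theorem ev_ab : ev Perm.gen 7 [6, 8] = FreeGroup.of PE.Gen.a * FreeGroup.of PE.Gen.b := by decide +kernel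
theorem ev_aB : ev Perm.gen 7 [6, 9] = FreeGroup.of PE.Gen.a * (FreeGroup.of PE.Gen.b)⁻¹ := by
  decide +kernel
theorem ev_aa : ev Perm.gen 7 [6, 6] = FreeGroup.of PE.Gen.a * FreeGroup.of PE.Gen.a := by decide +kernel
theorem ev_bb : ev Perm.gen 7 [8, 8] = FreeGroup.of PE.Gen.b * FreeGroup.of PE.Gen.b := by decide +kernel

theorem rho_a : rho (eg .a) ≠ 1 := by
  have := rho_ne_one_of_trace [6] (by decide +kernel) (by decide +kernel)
  rwa [ev_a] at this

theorem rho_b : rho (eg .b) ≠ 1 := by
  have := rho_ne_one_of_trace [8] (by decide +kernel) (by decide +kernel)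
  rwa [ev_b] at this

theorem rho_ab : rho (eg .a * eg .b) ≠ 1 := by
  have := rho_ne_one_of_trace [6, 8] (by decide +kernel) (by decide +kernel)
  rwa [ev_ab, map_mul] at this

theorem rho_aB : rho (eg .a * (eg .b)⁻¹) ≠ 1 := by
  have := rho_ne_one_of_trace [6, 9] (by decide +kernel) (by decide +kernel)
  rwa [ev_aB, map_mul, map_inv] at this

theorem rho_aa : rho (eg .a * eg .a) = 1 := by
  have := rho_eq_one_of_relOk [6, 6] (by decide +kernel) (by decide +kernel)
  rwa [ev_aa, map_mul] at this

theorem rho_bb : rho (eg .b * eg .b) = 1 := by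
  have := rho_eq_one_of_relOk [8, 8] (by decide +kernel) (by decide +kernel)
  rwa [ev_bb, map_mul] at this

theorem ea_ne_one : eg .a ≠ 1 := fun h => rho_a (by rw [h, map_one])
theorem eb_ne_one : eg .b ≠ 1 := fun h => rho_b (by rw [h, map_one])
theorem eab_ne_one : eg .a * eg .b ≠ 1 := fun h => rho_ab (by rw [h, map_one])
theorem ea_ne_eb : eg .a ≠ eg .b := fun h => rho_aB (by rw [h, mul_inv_cancel, map_one])

end Cfsg.Agent.Helper96.Sz8
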