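import Cfsg.Agent.Helper96.Sz8.Kernel

set_option autoImplicit false
set_option maxRecDepth 100000

/-!
# `E` is perfect, and the kernel of any map of `E` onto a group of order `29120` killing `a, b` is a four-group
-/

namespace Cfsg.Agent.Helper96.Sz8

open Cfsg.Agent.Helper28 Cfsg.Spor

/-! ### perfectness -/

section Perfect

variable {C : Type*} [CommGroup C] (f : E →* C)

theorem hom_comm_trivial_gen (g : PE.Gen) : f (eg g) = 1 := by
  suffices hh : Additive.ofMul (f (eg g)) = (0 : Additive C) from hh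
  have rel : ∀ r ∈ PE.extra, Additive.ofMul (f (PresentedGroup.mk RE r)) = (0 : Additive C) := by
    intro r hr
    rw [rel_eq_one r hr, map_one]; rfl
  have r1 := rel (PE.h * PE.h * PE.h * PE.h * PE.h * PE.h * PE.h) (by decide +kernel)
  have r3 := rel (PE.h * PE.x * PE.u⁻¹ * PE.h * PE.x⁻¹) (by decide +kernel)
  have r4 := rel (PE.h⁻¹ * PE.x * PE.x * PE.h * PE.x⁻¹ * PE.u⁻¹ * PE.x * PE.u * PE.x * PE.h⁻¹ * PE.x⁻¹ * PE.x⁻¹ * PE.h * PE.x⁻¹ * PE.x⁻¹) (by decide +kernel)
  have r6 := rel (PE.u⁻¹ * PE.h * PE.h * PE.h * PE.u⁻¹ * PE.h⁻¹ * PE.u * PE.h⁻¹ * PE.u⁻¹ * PE.h * PE.u * PE.h⁻¹ * PE.h⁻¹) (by decide +kernel)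
  have ra := rel (PE.h * PE.h * PE.h * PE.u * PE.h⁻¹ * PE.h⁻¹ * PE.u⁻¹ * PE.h⁻¹ * PE.u⁻¹ * PE.a⁻¹) (by decide +kernel)
  have rb := rel (PE.h * PE.u * PE.h⁻¹ * PE.u * PE.u * PE.h * PE.u⁻¹ * PE.h⁻¹ * PE.u⁻¹ * PE.u⁻¹ * PE.b⁻¹) (by decide +kernel)
  have rc := rel (PE.h * PE.u * PE.u * PE.h⁻¹ * PE.u * PE.h * PE.u⁻¹ * PE.u⁻¹ * PE.h⁻¹ * PE.u⁻¹ * PE.c⁻¹) (by decide +kernel)
  have rd := rel (PE.h * PE.h * PE.x⁻¹ * PE.u * PE.h * PE.u * PE.x * PE.h * PE.x * PE.x * PE.d⁻¹) (by decide +kernel)
  simp only [map_mul, map_inv, mk_of, ofMul_mul, ofMul_inv] at r1 r3 r4 r6 ra rb rc rd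
  set H : Additive C := Additive.ofMul (f (eg .h)) with hH
  set X : Additive C := Additive.ofMul (f (eg .x)) with hX
  set U : Additive C := Additive.ofMul (f (eg .u)) with hU
  set A : Additive C := Additive.ofMul (f (eg .a)) with hA
  set B : Additive C := Additive.ofMul (f (eg .b)) with hB
  set Cc : Additive C := Additive.ofMul (f (eg .c)) with hC
  set D : Additive C := Additive.ofMul (f (eg .d)) with hD
  have eX : X = 0 := by
    have e : X = -(-H + X + X + H + -X + -U + X + U + X + -H + -X + -X + H + -X + -X) := by abel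
    rw [e, r4, neg_zero]
  have eU : U = 0 := by
    have e : U = -(-U + H + H + H + -U + -H + U + -H + -U + H + U + -H + -H) := by abel
    rw [e, r6, neg_zero]
  have eH2 : H + H = 0 := by
    have e : H + H = (H + X + -U + H + -X) + U := by abel
    rw [e, r3, eU, add_zero]
  have eH : H = 0 := by
    have e : H = (H + H + H + H + H + H + H) - (H + H) - (H + H) - (H + H) := by abel
    rw [e, r1, eH2]; simp
  have eA : A = 0 := by
    have e : A = (H + H + H + U + -H + -H + -U + -H + -U) - (H + H + H + U + -H + -H + -U + -H + -U + -A) := by abel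
    rw [e, ra, eH, eU]; simp
  have eB : B = 0 := by
    have e : B = (H + U + -H + U + U + H + -U + -H + -U + -U) - (H + U + -H + U + U + H + -U + -H + -U + -U + -B) := by abel
    rw [e, rb, eH, eU]; simp
  have eC : Cc = 0 := by
    have e : Cc = (H + U + U + -H + U + H + -U + -U + -H + -U) - (H + U + U + -H + U + H + -U + -U + -H + -U + -Cc) := by abel
    rw [e, rc, eH, eU]; simp
  have eD : D = 0 := by
    have e : D = (H + H + -X + U + H + U + X + H + X + X) - (H + H + -X + U + H + U + X + H + X + X + -D) := by abel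
    rw [e, rd, eH, eU, eX]; simp
  cases g
  · exact eH
  · exact eX
  · exact eU
  · exact eA
  · exact eB
  · exact eC
  · exact eD

end Perfect

theorem commutator_E : commutator E = ⊤ := by
  rw [eq_top_iff, ← closure_eg, Subgroup.closure_le]
  rintro _ ⟨g, rfl⟩
  have h := hom_comm_trivial_gen (Abelianization.of : E →* Abelianization E) g
  exact (QuotientGroup.eq_one_iff _).mp h

/-! ### the kernel of a map onto `Sz(8)` -/

section Ker

variable {G : Type*} [Group G] (τ : E →* G)

theorem card_ker_le (hτ : Function.Surjective τ) (hG : Nat.card G = 29120) : Nat.card τ.ker ≤ 4 := by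
  haveI := card_E.1
  have h1 : Nat.card E = Nat.card G * Nat.card τ.ker := by
    rw [Subgroup.card_eq_card_quotient_mul_card_subgroup τ.ker,
      Nat.card_congr (QuotientGroup.quotientKerEquivOfSurjective τ hτ).toEquiv]
  have h2 := card_E.2
  rw [h1, hG] at h2
  omega

theorem ker_cases (hτ : Function.Surjective τ) (hG : Nat.card G = 29120) (ha : τ (eg .a) = 1)
    (hb : τ (eg .b) = 1) (k : E) (hk : τ k = 1) :
    k = 1 ∨ k = eg .a ∨ k = eg .b ∨ k = eg .a * eg .b := by
  classical
  haveI := card_E.1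
  haveI : Fintype τ.ker := Fintype.ofFinite _
  by_contra hcon
  simp only [not_or] at hcon
  obtain ⟨c1, c2, c3, c4⟩ := hcon
  let k0 : τ.ker := 1
  let k1 : τ.ker := ⟨eg .a, ha⟩
  let k2 : τ.ker := ⟨eg .b, hb⟩
  let k3 : τ.ker := ⟨eg .a * eg .b, by rw [MonoidHom.mem_ker, map_mul, ha, hb, one_mul]⟩
  let k4 : τ.ker := ⟨k, hk⟩
  have hcard : ({k0, k1, k2, k3, k4} : Finset τ.ker).card = 5 := by
    have d : ∀ (p q : τ.ker), (p : E) ≠ (q : E) → p ≠ q := fun p q h e => h (congrArg Subtype.val e)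
    rw [Finset.card_insert_of_notMem, Finset.card_insert_of_notMem, Finset.card_insert_of_notMem,
      Finset.card_insert_of_notMem, Finset.card_singleton]
    · simp only [Finset.mem_singleton]
      exact d _ _ (fun h => c4 h.symm)
    · simp only [Finset.mem_insert, Finset.mem_singleton, not_or]
      refine ⟨d _ _ ?_, d _ _ (fun h => c3 h.symm)⟩
      intro h
      have : eg PE.Gen.a * eg PE.Gen.b = eg PE.Gen.b := h.symm
      exact ea_ne_one (mul_eq_right.mp this)
    · simp only [Finset.mem_insert, Finset.mem_singleton, not_or]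
      refine ⟨d _ _ ea_ne_eb, d _ _ ?_, d _ _ (fun h => c2 h.symm)⟩
      intro h
      have : eg PE.Gen.a * eg PE.Gen.b = eg PE.Gen.a := h.symm
      exact eb_ne_one (mul_eq_left.mp this)
    · simp only [Finset.mem_insert, Finset.mem_singleton, not_or]
      refine ⟨d _ _ (fun h => ea_ne_one h.symm), d _ _ (fun h => eb_ne_one h.symm),
        d _ _ (fun h => eab_ne_one h.symm), d _ _ (fun h => c1 h.symm)⟩
  have h5 : 5 ≤ Nat.card τ.ker := by
    rw [Nat.card_eq_fintype_card, ← hcard]
    exact Finset.card_le_univ _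
  have := card_ker_le τ hτ hG
  omega

theorem ea_sq (hτ : Function.Surjective τ) (hG : Nat.card G = 29120) (ha : τ (eg .a) = 1)
    (hb : τ (eg .b) = 1) : eg .a * eg .a = 1 := by
  have hk : τ (eg .a * eg .a) = 1 := by rw [map_mul, ha, one_mul]
  rcases ker_cases τ hτ hG ha hb _ hk with h | h | h | h
  · exact h
  · exact absurd (mul_eq_left.mp h) ea_ne_one
  · exfalso; apply rho_b; rw [← h]; exact rho_aa
  · exact absurd (mul_left_cancel h) ea_ne_eb

theorem eb_sq (hτ : Function.Surjective τ) (hG : Nat.card G = 29120) (ha : τ (eg .a) = 1)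
    (hb : τ (eg .b) = 1) : eg .b * eg .b = 1 := by
  have hk : τ (eg .b * eg .b) = 1 := by rw [map_mul, hb, one_mul]
  have hab : eg .a * eg .b = eg .b * eg .a := (Subgroup.mem_center_iff.mp ea_center (eg .b)).symm
  rcases ker_cases τ hτ hG ha hb _ hk with h | h | h | h
  · exact h
  · exfalso; apply rho_a; rw [← h]; exact rho_bb
  · exact absurd (mul_eq_left.mp h) eb_ne_one
  · rw [hab] at h
    exact absurd (mul_left_cancel h).symm ea_ne_eb

end Ker

end Cfsg.Agent.Helper96.Sz8
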