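import Cfsg.Agent.Helper96.Sz8.Kernel2
import Cfsg.Agent.Helper66.Sz8P1
import Cfsg.Agent.Helper66.Sz8P3
import Cfsg.Agent.Helper12.Sz8P2

set_option autoImplicit false
set_option maxRecDepth 100000

/-!
# Every finite stem extension of a group of order `29120` onto which `E` maps (killing `a, b, c, d`) is a quotient of `E`
-/

namespace Cfsg.Agent.Helper96.Sz8

open Cfsg.Agent.Helper28 Cfsg.Spor

/-! ### relations in `E` -/

theorem eu_eq : eg .u = eg .h * (eg .x)⁻¹ * eg .h * eg .x := by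
  have r := rel_eq_one (PE.h * PE.x * PE.u⁻¹ * PE.h * PE.x⁻¹) (by decide +kernel)
  simp only [map_mul, map_inv, mk_of] at r
  have e : eg .u = eg .h * (eg .x)⁻¹ * (eg .h * eg .x * (eg .u)⁻¹ * eg .h * (eg .x)⁻¹)⁻¹ * eg .h * eg .x := by
    group
  rw [e, r]; group

theorem ea_eq : eg .a = eg .h * eg .h * eg .h * eg .u * (eg .h)⁻¹ * (eg .h)⁻¹ * (eg .u)⁻¹ * (eg .h)⁻¹ * (eg .u)⁻¹ := by
  have r := rel_eq_one (PE.h * PE.h * PE.h * PE.u * PE.h⁻¹ * PE.h⁻¹ * PE.u⁻¹ * PE.h⁻¹ * PE.u⁻¹ * PE.a⁻¹) (by decide +kernel)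
  simp only [map_mul, map_inv, mk_of] at r
  exact (mul_inv_eq_one.mp r).symm

theorem eb_eq : eg .b = eg .h * eg .u * (eg .h)⁻¹ * eg .u * eg .u * eg .h * (eg .u)⁻¹ * (eg .h)⁻¹ * (eg .u)⁻¹ * (eg .u)⁻¹ := by
  have r := rel_eq_one (PE.h * PE.u * PE.h⁻¹ * PE.u * PE.u * PE.h * PE.u⁻¹ * PE.h⁻¹ * PE.u⁻¹ * PE.u⁻¹ * PE.b⁻¹) (by decide +kernel)
  simp only [map_mul, map_inv, mk_of] at r
  exact (mul_inv_eq_one.mp r).symm

theorem ec_eq : eg .c = eg .h * eg .u * eg .u * (eg .h)⁻¹ * eg .u * eg .h * (eg .u)⁻¹ * (eg .u)⁻¹ * (eg .h)⁻¹ * (eg .u)⁻¹ := by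
  have r := rel_eq_one (PE.h * PE.u * PE.u * PE.h⁻¹ * PE.u * PE.h * PE.u⁻¹ * PE.u⁻¹ * PE.h⁻¹ * PE.u⁻¹ * PE.c⁻¹) (by decide +kernel)
  simp only [map_mul, map_inv, mk_of] at r
  exact (mul_inv_eq_one.mp r).symm

theorem ed_eq : eg .d = eg .h * eg .h * (eg .x)⁻¹ * eg .u * eg .h * eg .u * eg .x * eg .h * eg .x * eg .x := by
  have r := rel_eq_one (PE.h * PE.h * PE.x⁻¹ * PE.u * PE.h * PE.u * PE.x * PE.h * PE.x * PE.x * PE.d⁻¹) (by decide +kernel)
  simp only [map_mul, map_inv, mk_of] at r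
  exact (mul_inv_eq_one.mp r).symm

theorem eh_pow : eg .h ^ 7 = 1 := by
  have r := rel_eq_one (PE.h * PE.h * PE.h * PE.h * PE.h * PE.h * PE.h) (by decide +kernel)
  simp only [map_mul, mk_of] at r
  rw [← r]; simp only [pow_succ, pow_zero, one_mul]

theorem ex_pow : eg .x ^ 5 = 1 := by
  have r := rel_eq_one (PE.x * PE.x * PE.x * PE.x * PE.x) (by decide +kernel)
  simp only [map_mul, mk_of] at r
  rw [← r]; simp only [pow_succ, pow_zero, one_mul]

/-! ### the lifted generators -/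

section Lift

variable {Γ : Type*} [Group Γ]

/-- the lift of `u` -/
def lu (th tx : Γ) : Γ := th * tx⁻¹ * th * tx

/-- the images of the generators in a stem extension, from the canonical lifts `th`, `tx` of `h`, `x` -/
def liftGen (th tx : Γ) : PE.Gen → Γ
  | .h => th
  | .x => tx
  | .u => lu th tx
  | .a => th * th * th * lu th tx * th⁻¹ * th⁻¹ * (lu th tx)⁻¹ * th⁻¹ * (lu th tx)⁻¹
  | .b => th * lu th tx * th⁻¹ * lu th tx * lu th tx * th * (lu th tx)⁻¹ * th⁻¹ * (lu th tx)⁻¹ * (lu th tx)⁻¹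
  | .c => th * lu th tx * lu th tx * th⁻¹ * lu th tx * th * (lu th tx)⁻¹ * (lu th tx)⁻¹ * th⁻¹ * (lu th tx)⁻¹
  | .d => th * th * tx⁻¹ * lu th tx * th * lu th tx * tx * th * tx * tx

variable {G : Type*} [Group G] (τ : E →* G) (σ : Γ →* G) (th tx : Γ)

theorem map_liftGen (hth : σ th = τ (eg .h)) (htx : σ tx = τ (eg .x)) (g : PE.Gen) :
    σ (liftGen th tx g) = τ (eg g) := by
  have hu : σ (lu th tx) = τ (eg .u) := by
    rw [eu_eq]; simp only [lu, map_mul, map_inv, hth, htx]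
  cases g
  · exact hth
  · exact htx
  · exact hu
  · rw [ea_eq]; simp only [liftGen, map_mul, map_inv, hth, hu]
  · rw [eb_eq]; simp only [liftGen, map_mul, map_inv, hth, hu]
  · rw [ec_eq]; simp only [liftGen, map_mul, map_inv, hth, hu]
  · rw [ed_eq]; simp only [liftGen, map_mul, map_inv, hth, htx, hu]

theorem map_lift (hth : σ th = τ (eg .h)) (htx : σ tx = τ (eg .x)) (w : FreeGroup PE.Gen) :
    σ (FreeGroup.lift (liftGen th tx) w) = τ (PresentedGroup.mk RE w) := by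
  have : σ.comp (FreeGroup.lift (liftGen th tx)) = τ.comp (PresentedGroup.mk RE) := by
    ext g
    simp only [MonoidHom.comp_apply, FreeGroup.lift_apply_of]
    exact map_liftGen τ σ th tx hth htx g
  exact DFunLike.congr_fun this w

end Lift

end Cfsg.Agent.Helper96.Sz8
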