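import Cfsg.Agent.Helper96.Sz8.Lift

set_option autoImplicit false
set_option maxRecDepth 100000

/-!
# The relators of `E` hold for the lifted generators in a stem extension
-/

namespace Cfsg.Agent.Helper96.Sz8

open Cfsg.Agent.Helper28 Cfsg.Spor

theorem comm_one {Γ : Type*} [Group Γ] (z t : Γ) (hz : z ∈ Subgroup.center Γ) :
    z * t * z⁻¹ * t⁻¹ = 1 := by
  rw [Subgroup.mem_center_iff] at hz
  rw [← hz t]; group

theorem conj_pow_eq_one {Γ : Type*} [Group Γ] (p s : Γ) (m : ℕ) (hs : s ^ m = 1) :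
    (p * s * p⁻¹) ^ m = 1 := by
  rw [conj_pow, hs, mul_one, mul_inv_cancel]

section Main

variable {Γ : Type*} [Group Γ] [Finite Γ] {G : Type*} [Group G] (τ : E →* G) (σ : Γ →* G)

theorem lift_rels (hc : σ.ker ≤ Subgroup.center Γ) (h7 : (Nat.card σ.ker).Coprime 7)
    (h5 : (Nat.card σ.ker).Coprime 5) (th tx : Γ) (hth : σ th = τ (eg .h)) (htx : σ tx = τ (eg .x))
    (hth7 : th ^ 7 = 1) (htx5 : tx ^ 5 = 1) (hza : τ (eg .a) = 1) (hzb : τ (eg .b) = 1)
    (hzc : τ (eg .c) = 1) (hzd : τ (eg .d) = 1) :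
    ∀ r ∈ RE, FreeGroup.lift (liftGen th tx) r = 1 := by
  intro r hr
  rcases hr with hr | hr
  · obtain ⟨x, hx, -⟩ := hr
    simp [coxNodes, PE.edges] at hx
  have hr' : r ∈ PE.extra := hr
  -- the value of a relator lies in the kernel
  have hk : σ (FreeGroup.lift (liftGen th tx) r) = 1 := by
    rw [map_lift τ σ th tx hth htx, rel_eq_one r hr', map_one]
  have hcen : ∀ g : PE.Gen, τ (eg g) = 1 → liftGen th tx g ∈ Subgroup.center Γ := by
    intro g hg
    apply hc
    rw [MonoidHom.mem_ker, map_liftGen τ σ th tx hth htx, hg]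
  have ca := hcen .a hza
  have cb := hcen .b hzb
  have cc := hcen .c hzc
  have cd := hcen .d hzd
  have htu7 : (th⁻¹ * lu th tx) ^ 7 = 1 := by
    have e : th⁻¹ * lu th tx = tx⁻¹ * th * tx⁻¹⁻¹ := by unfold lu; group
    rw [e]; exact conj_pow_eq_one _ _ 7 hth7
  have hthi7 : (th⁻¹) ^ 7 = 1 := by rw [inv_pow, hth7, inv_one]
  have htx2 : (tx * tx) ^ 5 = 1 := by
    rw [← pow_two, ← pow_mul, mul_comm, pow_mul, htx5, one_pow]
  simp only [PE.extra, List.mem_cons, List.not_mem_nil, or_false] at hr'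
  rcases hr' with rfl | rfl | rfl | rfl | rfl | rfl | rfl | rfl | rfl | rfl | rfl | rfl | rfl | rfl |
    rfl | rfl | rfl | rfl | rfl | rfl | rfl | rfl | rfl | rfl | rfl | rfl | rfl | rfl
  · -- h ^ 7
    simp only [map_mul, FreeGroup.lift_apply_of, liftGen]
    rw [← hth7]; simp only [pow_succ, pow_zero, one_mul]
  · -- x ^ 5
    simp only [map_mul, FreeGroup.lift_apply_of, liftGen]
    rw [← htx5]; simp only [pow_succ, pow_zero, one_mul]
  · -- definition of u
    simp only [map_mul, map_inv, FreeGroup.lift_apply_of, liftGen, lu]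
    group
  · -- v x v⁻¹ = x², v = h⁻¹ x x h x⁻¹ u⁻¹
    generalize hX : FreeGroup.lift (liftGen th tx) _ = X at hk ⊢
    simp only [map_mul, map_inv, FreeGroup.lift_apply_of, liftGen] at hX
    subst hX
    set tu := lu th tx with htu
    have e : th⁻¹ * tx * tx * th * tx⁻¹ * tu⁻¹ * tx * tu * tx * th⁻¹ * tx⁻¹ * tx⁻¹ * th * tx⁻¹ * tx⁻¹ =
        ((th⁻¹ * tx * tx * th * tx⁻¹ * tu⁻¹) * tx * (th⁻¹ * tx * tx * th * tx⁻¹ * tu⁻¹)⁻¹) * (tx * tx)⁻¹ := by
      group
    rw [e] at hk ⊢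
    rw [map_mul, map_inv, mul_inv_eq_one] at hk
    rw [mul_inv_eq_one]
    exact Cfsg.Agent.Helper66.Sz8.eq_of_pow_eq_one_of_map_eq σ hc 5 h5 _ _
      (conj_pow_eq_one _ _ 5 htx5) htx2 hk
  · -- v x v⁻¹ = x², v = h x⁻¹ u h x⁻¹ u⁻¹
    generalize hX : FreeGroup.lift (liftGen th tx) _ = X at hk ⊢
    simp only [map_mul, map_inv, FreeGroup.lift_apply_of, liftGen] at hX
    subst hX
    set tu := lu th tx with htu
    have e : th * tx⁻¹ * tu * th * tx⁻¹ * tu⁻¹ * tx * tu * tx * th⁻¹ * tu⁻¹ * tx * th⁻¹ * tx⁻¹ * tx⁻¹ =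
        ((th * tx⁻¹ * tu * th * tx⁻¹ * tu⁻¹) * tx * (th * tx⁻¹ * tu * th * tx⁻¹ * tu⁻¹)⁻¹) * (tx * tx)⁻¹ := by
      group
    rw [e] at hk ⊢
    rw [map_mul, map_inv, mul_inv_eq_one] at hk
    rw [mul_inv_eq_one]
    exact Cfsg.Agent.Helper66.Sz8.eq_of_pow_eq_one_of_map_eq σ hc 5 h5 _ _
      (conj_pow_eq_one _ _ 5 htx5) htx2 hk
  · -- u = [h, g], g = h h u⁻¹ h⁻¹ u h⁻¹
    generalize hX : FreeGroup.lift (liftGen th tx) _ = X at hk ⊢
    simp only [map_mul, map_inv, FreeGroup.lift_apply_of, liftGen] at hX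
    subst hX
    set tu := lu th tx with htu
    have e : tu⁻¹ * th * th * th * tu⁻¹ * th⁻¹ * tu * th⁻¹ * tu⁻¹ * th * tu * th⁻¹ * th⁻¹ =
        (th⁻¹ * tu)⁻¹ * ((th * th * tu⁻¹ * th⁻¹ * tu * th⁻¹) * th⁻¹ * (th * th * tu⁻¹ * th⁻¹ * tu * th⁻¹)⁻¹) := by
      group
    rw [e] at hk ⊢
    rw [map_mul, map_inv, inv_mul_eq_one] at hk
    rw [inv_mul_eq_one]
    exact Cfsg.Agent.Helper66.Sz8.eq_of_pow_eq_one_of_map_eq σ hc 7 h7 _ _
      htu7 (conj_pow_eq_one _ _ 7 hthi7) hk
  · -- r = a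
    simp only [map_mul, map_inv, FreeGroup.lift_apply_of, liftGen]
    exact mul_inv_cancel _
  · simp only [map_mul, map_inv, FreeGroup.lift_apply_of]; exact comm_one _ _ ca
  · simp only [map_mul, map_inv, FreeGroup.lift_apply_of]; exact comm_one _ _ ca
  · simp only [map_mul, map_inv, FreeGroup.lift_apply_of]; exact comm_one _ _ ca
  · -- r = b
    simp only [map_mul, map_inv, FreeGroup.lift_apply_of, liftGen]
    exact mul_inv_cancel _
  · simp only [map_mul, map_inv, FreeGroup.lift_apply_of]; exact comm_one _ _ cb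
  · simp only [map_mul, map_inv, FreeGroup.lift_apply_of]; exact comm_one _ _ cb
  · simp only [map_mul, map_inv, FreeGroup.lift_apply_of]; exact comm_one _ _ cb
  · -- r = c
    simp only [map_mul, map_inv, FreeGroup.lift_apply_of, liftGen]
    exact mul_inv_cancel _
  · simp only [map_mul, map_inv, FreeGroup.lift_apply_of]; exact comm_one _ _ cc
  · simp only [map_mul, map_inv, FreeGroup.lift_apply_of]; exact comm_one _ _ cc
  · simp only [map_mul, map_inv, FreeGroup.lift_apply_of]; exact comm_one _ _ cc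
  · -- r = d
    simp only [map_mul, map_inv, FreeGroup.lift_apply_of, liftGen]
    exact mul_inv_cancel _
  · simp only [map_mul, map_inv, FreeGroup.lift_apply_of]; exact comm_one _ _ cd
  · simp only [map_mul, map_inv, FreeGroup.lift_apply_of]; exact comm_one _ _ cd
  · simp only [map_mul, map_inv, FreeGroup.lift_apply_of]; exact comm_one _ _ cd
  · simp only [map_mul, map_inv, FreeGroup.lift_apply_of]; exact comm_one _ _ ca
  · simp only [map_mul, map_inv, FreeGroup.lift_apply_of]; exact comm_one _ _ ca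
  · simp only [map_mul, map_inv, FreeGroup.lift_apply_of]; exact comm_one _ _ ca
  · simp only [map_mul, map_inv, FreeGroup.lift_apply_of]; exact comm_one _ _ cb
  · simp only [map_mul, map_inv, FreeGroup.lift_apply_of]; exact comm_one _ _ cb
  · simp only [map_mul, map_inv, FreeGroup.lift_apply_of]; exact comm_one _ _ cc

end Main

end Cfsg.Agent.Helper96.Sz8
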