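import Cfsg.Agent.Helper96.Sz8.Kernel2
import Cfsg.Agent.Helper96.Sz8.Lift2
import Cfsg.Agent.Helper66.Sz8P1
import Cfsg.Agent.Helper66.Sz8P3
import Cfsg.Agent.Helper12.Sz8P2

set_option autoImplicit false
set_option maxRecDepth 100000

/-!
# `E` is the Schur cover of any group `G` of order `29120` onto which it maps killing `a, b, c, d`

For `τ : E →* G` onto, killing the central generators, the kernel of `τ` is a four-group, `τ` is a stem
extension, and every finite stem extension `σ : Γ →* G` is a quotient of `τ` (the relators of `E` hold for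
the canonical lifts of the generators).
-/

namespace Cfsg.Agent.Helper96.Sz8

open Cfsg.Agent.Helper28 Cfsg.Spor

section Main

variable {G : Type*} [Group G] (τ : E →* G)

theorem stem_tau (hτ : Function.Surjective τ) (hG : Nat.card G = 29120) (ha : τ (eg .a) = 1)
    (hb : τ (eg .b) = 1) : Cfsg.IsStemExtension τ := by
  refine ⟨hτ, ?_, ?_⟩
  · intro k hk
    rcases ker_cases τ hτ hG ha hb k hk with rfl | rfl | rfl | rfl
    · exact Subgroup.one_mem _
    · exact ea_center
    · exact eb_center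
    · exact Subgroup.mul_mem _ ea_center eb_center
  · rw [commutator_E]; exact le_top

theorem card_ker (hτ : Function.Surjective τ) (hG : Nat.card G = 29120) (ha : τ (eg .a) = 1)
    (hb : τ (eg .b) = 1) : Nat.card τ.ker = 4 := by
  classical
  haveI := card_E.1
  haveI : Fintype τ.ker := Fintype.ofFinite _
  let k0 : τ.ker := 1
  let k1 : τ.ker := ⟨eg .a, ha⟩
  let k2 : τ.ker := ⟨eg .b, hb⟩
  let k3 : τ.ker := ⟨eg .a * eg .b, by rw [MonoidHom.mem_ker, map_mul, ha, hb, one_mul]⟩
  have hcard : ({k0, k1, k2, k3} : Finset τ.ker).card = 4 := by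
    have d : ∀ (p q : τ.ker), (p : E) ≠ (q : E) → p ≠ q := fun p q h e => h (congrArg Subtype.val e)
    rw [Finset.card_insert_of_notMem, Finset.card_insert_of_notMem, Finset.card_insert_of_notMem,
      Finset.card_singleton]
    · simp only [Finset.mem_singleton]
      refine d _ _ ?_
      intro h
      have : eg PE.Gen.a * eg PE.Gen.b = eg PE.Gen.b := h.symm
      exact ea_ne_one (mul_eq_right.mp this)
    · simp only [Finset.mem_insert, Finset.mem_singleton, not_or]
      refine ⟨d _ _ ea_ne_eb, d _ _ ?_⟩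
      intro h
      have : eg PE.Gen.a * eg PE.Gen.b = eg PE.Gen.a := h.symm
      exact eb_ne_one (mul_eq_left.mp this)
    · simp only [Finset.mem_insert, Finset.mem_singleton, not_or]
      exact ⟨d _ _ (fun h => ea_ne_one h.symm), d _ _ (fun h => eb_ne_one h.symm),
        d _ _ (fun h => eab_ne_one h.symm)⟩
  have h4 : 4 ≤ Nat.card τ.ker := by
    rw [Nat.card_eq_fintype_card, ← hcard]
    exact Finset.card_le_univ _
  have := card_ker_le τ hτ hG
  omega

theorem ker_sq (hτ : Function.Surjective τ) (hG : Nat.card G = 29120) (ha : τ (eg .a) = 1)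
    (hb : τ (eg .b) = 1) (k : E) (hk : τ k = 1) : k * k = 1 := by
  have hab : eg .a * eg .b = eg .b * eg .a := (Subgroup.mem_center_iff.mp ea_center (eg .b)).symm
  have haa := ea_sq τ hτ hG ha hb
  have hbb := eb_sq τ hτ hG ha hb
  rcases ker_cases τ hτ hG ha hb k hk with rfl | rfl | rfl | rfl
  · exact one_mul 1
  · exact haa
  · exact hbb
  · calc eg .a * eg .b * (eg .a * eg .b) = eg .a * (eg .b * eg .a) * eg .b := by group
      _ = eg .a * (eg .a * eg .b) * eg .b := by rw [hab]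
      _ = (eg .a * eg .a) * (eg .b * eg .b) := by group
      _ = 1 := by rw [haa, hbb, one_mul]

theorem isKleinFour_ker (hτ : Function.Surjective τ) (hG : Nat.card G = 29120) (ha : τ (eg .a) = 1)
    (hb : τ (eg .b) = 1) : IsKleinFour τ.ker := by
  refine ⟨card_ker τ hτ hG ha hb, ?_⟩
  have hdvd : Monoid.exponent τ.ker ∣ 2 := by
    apply Monoid.exponent_dvd_of_forall_pow_eq_one
    rintro ⟨k, hk⟩
    apply Subtype.ext
    rw [pow_two]
    exact ker_sq τ hτ hG ha hb k hk
  rcases (Nat.dvd_prime Nat.prime_two).mp hdvd with h | h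
  · exfalso
    rw [Monoid.exp_eq_one_iff] at h
    have : (⟨eg .a, ha⟩ : τ.ker) = 1 := Subsingleton.elim _ _
    exact ea_ne_one (congrArg Subtype.val this)
  · exact h

/-- the kernel of every finite stem extension of `G` is an image of the kernel of `τ` -/
theorem exists_surj_ker (hτ : Function.Surjective τ) (hG : Nat.card G = 29120) (ha : τ (eg .a) = 1)
    (hb : τ (eg .b) = 1) (hc : τ (eg .c) = 1) (hd : τ (eg .d) = 1)
    {Γ : Type*} [Group Γ] [Finite Γ] (σ : Γ →* G) (hσ : Cfsg.IsStemExtension σ) :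
    ∃ π : τ.ker →* σ.ker, Function.Surjective π := by
  haveI : Finite G := Nat.finite_of_card_ne_zero (by rw [hG]; norm_num)
  haveI : Fact (Nat.Prime 7) := ⟨by norm_num⟩
  haveI : Fact (Nat.Prime 5) := ⟨by norm_num⟩
  have n7 : ¬ 7 ∣ Nat.card σ.ker :=
    Cfsg.Agent.Helper12.Sz8.stem_ker_not_dvd_of_cyclic_sylow σ hσ 7
      (fun P => Cfsg.Agent.Helper12.Sz8.sylow_cyclic_of_card 7 4160 (by rw [hG]) (by norm_num) P)
  have n5 : ¬ 5 ∣ Nat.card σ.ker :=
    Cfsg.Agent.Helper12.Sz8.stem_ker_not_dvd_of_cyclic_sylow σ hσ 5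
      (fun P => Cfsg.Agent.Helper12.Sz8.sylow_cyclic_of_card 5 5824 (by rw [hG]) (by norm_num) P)
  have h7 : (Nat.card σ.ker).Coprime 7 :=
    ((Nat.Prime.coprime_iff_not_dvd (by norm_num)).2 n7).symm
  have h5 : (Nat.card σ.ker).Coprime 5 :=
    ((Nat.Prime.coprime_iff_not_dvd (by norm_num)).2 n5).symm
  obtain ⟨hs, hcen, hcomm⟩ := hσ
  obtain ⟨th, ⟨hth, hth7⟩, -⟩ := Cfsg.Agent.Helper66.Sz8.existsUnique_lift_pow σ hs hcen 7 h7
    (τ (eg .h)) (by rw [← map_pow, eh_pow, map_one])
  obtain ⟨tx, ⟨htx, htx5⟩, -⟩ := Cfsg.Agent.Helper66.Sz8.existsUnique_lift_pow σ hs hcen 5 h5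
    (τ (eg .x)) (by rw [← map_pow, ex_pow, map_one])
  have hrels := lift_rels τ σ hcen h7 h5 th tx hth htx hth7 htx5 ha hb hc hd
  let φ : E →* Γ := PresentedGroup.toGroup hrels
  have hcomp : σ.comp φ = τ := by
    apply PresentedGroup.ext
    intro g
    rw [MonoidHom.comp_apply]
    show σ (PresentedGroup.toGroup hrels (PresentedGroup.of g)) = τ (eg g)
    rw [PresentedGroup.toGroup.of]
    exact map_liftGen τ σ th tx hth htx g
  obtain ⟨-, hφk⟩ := Cfsg.Agent.Helper66.Sz8.surjective_of_comp_stem τ σ φ hcomp hτ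
    ⟨hs, hcen, hcomm⟩
  have hmem : ∀ k : τ.ker, (φ.comp τ.ker.subtype) k ∈ σ.ker := fun k => by
    rw [MonoidHom.mem_ker, MonoidHom.comp_apply, ← MonoidHom.comp_apply σ φ, hcomp]
    exact k.2
  refine ⟨(φ.comp τ.ker.subtype).codRestrict σ.ker hmem, ?_⟩
  rintro ⟨k, hk⟩
  obtain ⟨e, he1, he2⟩ := hφk k hk
  exact ⟨⟨e, he1⟩, Subtype.ext he2⟩

end Main

end Cfsg.Agent.Helper96.Sz8
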